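import Cfsg.Agent.H903.GeoCase

/-!
# S3618, part A: lines of the combinatorial structure `Geo` (plan `tools/plans/S3618_A.md`, section 7)

`symm`, `conn`, `B_le`, `case10` of `tools/plans/S3618_A_stmts.lean`.
-/

set_option autoImplicit false
set_option linter.unusedSectionVars false

open Equiv Equiv.Perm MulAction Cfsg.Agent.H411.PrA
open scoped Pointwise
open Cfsg.Agent.H903.GeoCase (fl mem_fl self_mem_fl card_fl fl_change' choose_two_lt fl_mono)

namespace Cfsg.Agent.H405.PrA

universe u

variable {Ω : Type u} {p m B ε : ℕ} {XX : Set (Perm Ω)}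

/-- the number of points determines the rank -/
theorem inj_gen (s r : ℕ) (hB : 1 ≤ B ∨ (1 ≤ ε ∧ 2 ≤ s)) (h : B * r + ε * r.choose 2 = B * s + ε * s.choose 2) :
    r = s := by
  have hmono : ∀ r s : ℕ, r < s → r.choose 2 ≤ s.choose 2 := fun r s h => Nat.choose_le_choose 2 h.le
  rcases hB with hB | ⟨hε, hs⟩
  · rcases lt_trichotomy r s with h1 | h1 | h1
    · have h2 := hmono _ _ h1
      have h3 : B * r < B * s := Nat.mul_lt_mul_of_pos_left h1 hB
      have h4 : ε * r.choose 2 ≤ ε * s.choose 2 := Nat.mul_le_mul_left _ h2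
      omega
    · exact h1
    · have h2 := hmono _ _ h1
      have h3 : B * s < B * r := Nat.mul_lt_mul_of_pos_left h1 hB
      have h4 : ε * s.choose 2 ≤ ε * r.choose 2 := Nat.mul_le_mul_left _ h2
      omega
  · rcases lt_trichotomy r s with h1 | h1 | h1
    · have h2 : r.choose 2 < s.choose 2 := by
        rcases Nat.lt_or_ge r 1 with h5 | h5
        · have : r.choose 2 = 0 := Nat.choose_eq_zero_of_lt (by omega)
          rw [this]
          exact Nat.choose_pos hs
        · exact choose_two_lt r s h5 h1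
      have h3 : B * r ≤ B * s := Nat.mul_le_mul_left _ h1.le
      have h4 : ε * r.choose 2 < ε * s.choose 2 := Nat.mul_lt_mul_of_pos_left h2 hε
      omega
    · exact h1
    · have h2 : s.choose 2 < r.choose 2 := choose_two_lt s r (by omega) h1
      have h3 : B * s ≤ B * r := Nat.mul_le_mul_left _ h1.le
      have h4 : ε * s.choose 2 < ε * r.choose 2 := Nat.mul_lt_mul_of_pos_left h2 hε
      omega

theorem NF_symm {a b : Ω} (h : NF XX a b) : NF XX b a := by
  obtain ⟨x, hx, h1, h2⟩ := h
  exact ⟨x, hx, h2, h1⟩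

variable [Finite Ω]

/-- if there are no singletons the label of `b` has two elements -/
theorem card_S_two (g : Geo p m B ε XX) (hB : B = 0) {a b : Ω} (hab : a ≠ b) (hn : NF XX a b) : (g.S a b).card = 2 := by
  have h1 := g.card_S a b hab hn
  have h2 : (g.S a b).card ≠ 1 := by
    intro h
    obtain ⟨i, hi⟩ := Finset.card_eq_one.1 h
    have h3 := (g.card_B a i).trans hB
    rw [Set.ncard_eq_zero (Set.toFinite _)] at h3
    exact Set.notMem_empty b (h3 ▸ (show b ∈ {b | a ≠ b ∧ NF XX a b ∧ g.S a b = {i}} from ⟨hab, hn, hi⟩))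
  omega

theorem symm_le (g : Geo p m B ε XX) (hm : p + 3 ≤ m) (hp : 3 ≤ p) (hBe : 1 ≤ B + ε) {a b : Ω} (hab : a ≠ b)
    (hn : NF XX a b) : (g.S b a).card ≤ (g.S a b).card := by
  obtain ⟨h1, h2⟩ := g.card_S a b hab hn
  have hbF : b ∈ fl g a (g.S a b) :=
    (mem_fl g (by omega) a _ (by omega) b).2 (Or.inr ⟨hab, hn, Finset.Subset.refl _⟩)
  obtain ⟨T', h3, h4, h5⟩ := fl_change' g (by omega) a (g.S a b) (by omega) (fun r hr => inj_gen _ _ (by
    by_cases hB : B = 0
    · right
      exact ⟨by omega, by rw [card_S_two g hB hab hn]⟩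
    · left; omega) hr) b hbF
  rw [← h3]
  apply Finset.card_le_card
  intro i hi
  rw [h5]
  exact ⟨a, self_mem_fl g a _, hab, hi⟩

theorem symm (g : Geo p m B ε XX) (hm : p + 3 ≤ m) (hp : 3 ≤ p) (hBe : 1 ≤ B + ε) (a b : Ω) (hab : a ≠ b)
    (hn : NF XX a b) : (g.S a b).card = (g.S b a).card :=
  le_antisymm (symm_le g hm hp hBe hab.symm (NF_symm hn)) (symm_le g hm hp hBe hab hn)

theorem near_symm (g : Geo p m B ε XX) (hm : p + 3 ≤ m) (hp : 3 ≤ p) (hB : 1 ≤ B) {a b : Ω} (h : g.Near a b) :
    g.Near b a := by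
  obtain ⟨h1, h2, h3⟩ := h
  exact ⟨h1.symm, NF_symm h2, by rw [← symm g hm hp (by omega) a b h1 h2]; exact h3⟩

/-- the points fixed by all members of `XX` which fix `a` and `b` form the flat of the label of `b` -/
theorem closure_eq (g : Geo p m B ε XX) {a b : Ω} (hab : a ≠ b) (hn : NF XX a b) :
    {y | ∀ x ∈ XX, x a = a → x b = b → x y = y} = fl g a (g.S a b) := by
  ext y
  constructor
  · intro h x hx hxa hd
    exact h x hx hxa ((g.fix_iff a b hab hn x hx hxa).2 hd)
  · intro h x hx hxa hxb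
    exact h x hx hxa ((g.fix_iff a b hab hn x hx hxa).1 hxb)

/-- the members of a line: `c` is on the line of `a`, `b` -/
theorem mem_line (g : Geo p m B ε XX) (hm : p + 3 ≤ m) (hp : 3 ≤ p) {a : Ω} {i : Fin m} {c : Ω} :
    c ∈ fl g a {i} ↔ c = a ∨ (g.Near a c ∧ g.S a c = {i}) := by
  rw [mem_fl g (by omega) a {i} (by rw [Finset.card_singleton]; omega)]
  constructor
  · rintro (h | ⟨h1, h2, h3⟩)
    · exact Or.inl h
    · right
      have h4 := (g.card_S a c h1 h2).1
      have h5 : g.S a c = {i} := by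
        apply Finset.eq_of_subset_of_card_le h3
        rw [Finset.card_singleton]
        exact h4
      exact ⟨⟨h1, h2, by rw [h5, Finset.card_singleton]⟩, h5⟩
  · rintro (h | ⟨⟨h1, h2, -⟩, h3⟩)
    · exact Or.inl h
    · exact Or.inr ⟨h1, h2, h3.subset⟩

/-- a line seen from another of its points -/
theorem line_change (g : Geo p m B ε XX) (hm : p + 3 ≤ m) (hp : 3 ≤ p) (hB : 1 ≤ B) {a c : Ω} {i : Fin m}
    (hc : c ∈ fl g a {i}) : ∃ j : Fin m, fl g c {j} = fl g a {i} := by
  obtain ⟨T', h1, h2, -⟩ := fl_change' g (by omega) a {i} (by rw [Finset.card_singleton]; omega)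
    (fun r hr => inj_gen _ _ (Or.inl hB) hr) c hc
  rw [Finset.card_singleton] at h1
  obtain ⟨j, rfl⟩ := Finset.card_eq_one.1 h1
  exact ⟨j, h2⟩

/-- two lines with two common points are equal -/
theorem line_unique (g : Geo p m B ε XX) (hm : p + 3 ≤ m) (hp : 3 ≤ p) (hB : 1 ≤ B) {a a' c d : Ω} {i i' : Fin m}
    (hc : c ∈ fl g a {i}) (hd : d ∈ fl g a {i}) (hc' : c ∈ fl g a' {i'}) (hd' : d ∈ fl g a' {i'}) (hcd : c ≠ d) :
    fl g a {i} = fl g a' {i'} := by
  obtain ⟨j, hj⟩ := line_change g hm hp hB hc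
  obtain ⟨j', hj'⟩ := line_change g hm hp hB hc'
  rw [← hj] at hd
  rw [← hj'] at hd'
  rw [← hj, ← hj']
  rcases (mem_line g hm hp).1 hd with h | ⟨-, h1⟩
  · exact absurd h.symm hcd
  rcases (mem_line g hm hp).1 hd' with h | ⟨-, h2⟩
  · exact absurd h.symm hcd
  rw [h1] at h2
  rw [h2]

theorem B_le (g : Geo p m B ε XX) (hm : p + 3 ≤ m) (hp : 3 ≤ p) (hB : 1 ≤ B) [Nonempty Ω] : B ≤ 1 + ε := by
  classical
  obtain ⟨a⟩ := (inferInstance : Nonempty Ω)
  set i : Fin m := ⟨0, by omega⟩ with hidef
  set j : Fin m := ⟨1, by omega⟩ with hjdef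
  have hij : i ≠ j := by
    intro h
    have := congrArg Fin.val h
    simp [hidef, hjdef] at this
  have hijc : ({i, j} : Finset (Fin m)).card = 2 := Finset.card_pair hij
  -- a point `c` of the line `i`
  obtain ⟨c, hac, hnc, hSc⟩ : ({b | a ≠ b ∧ NF XX a b ∧ g.S a b = {i}}).Nonempty := by
    rw [← Set.ncard_pos (Set.toFinite _), g.card_B a i]
    exact hB
  have hcnear : g.Near a c := ⟨hac, hnc, by rw [hSc, Finset.card_singleton]⟩
  have hcL : c ∈ fl g a {i} := (mem_line g hm hp).2 (Or.inr ⟨hcnear, hSc⟩)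
  have hcF : c ∈ fl g a {i, j} := fl_mono g a (by simp) hcL
  obtain ⟨T', h1, h2, h3⟩ := fl_change' g (by omega) a {i, j} (by omega) (fun r hr => inj_gen _ _ (Or.inl hB) hr) c hcF
  rw [hijc] at h1
  -- the label of `a` seen from `c`
  have hSca : (g.S c a).card = 1 := (near_symm g hm hp hB hcnear).2.2
  obtain ⟨i', hi'⟩ := Finset.card_eq_one.1 hSca
  have hi'T : i' ∈ T' := (h3 i').2 ⟨a, self_mem_fl g a _, hac, by rw [hi']; simp⟩
  obtain ⟨j', hj'T, hj'⟩ := Finset.exists_mem_ne (by omega : 1 < T'.card) i'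
  have hT'm : T'.card + p ≤ m := by omega
  -- the second line
  have haL' : a ∈ fl g c {i'} := (mem_line g hm hp).2 (Or.inr ⟨near_symm g hm hp hB hcnear, hi'⟩)
  have hLL : fl g c {i'} = fl g a {i} :=
    line_unique g hm hp hB (self_mem_fl g c _) haL' hcL (self_mem_fl g a _) hac.symm
  have hL2F : fl g c {j'} ⊆ fl g a {i, j} := by
    rw [← h2]
    exact fl_mono g c (by simpa using hj'T)
  have hcard : (fl g c {j'}).ncard = 1 + B := by
    rw [card_fl g (by omega) c {j'} (by rw [Finset.card_singleton]; omega), Finset.card_singleton]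
    simp
  have hcard2 : (fl g c {j'} \ {c}).ncard = B := by
    rw [Set.ncard_diff_singleton_of_mem (self_mem_fl g c _), hcard]
    omega
  have hsub : fl g c {j'} \ {c} ⊆ (fl g c {j'} ∩ fl g a {j}) ∪ {b | a ≠ b ∧ NF XX a b ∧ g.S a b = {i, j}} := by
    rintro y ⟨hy, hyc⟩
    have hyF := hL2F hy
    have hyL : y ∉ fl g a {i} := by
      intro hyL
      rw [← hLL] at hyL
      have h5 := line_unique g hm hp hB (self_mem_fl g c _) hyL (self_mem_fl g c _) hy
        (fun h => hyc (by rw [← h]; rfl))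
      rw [← h5] at hy
      -- then `{i'} = {j'}`
      rcases (mem_line g hm hp).1 hy with h6 | ⟨h6, h7⟩
      · exact hyc h6
      · rw [h5] at hy
        rcases (mem_line g hm hp).1 hy with h8 | ⟨h8, h9⟩
        · exact hyc h8
        · rw [h7] at h9
          exact hj' (Finset.singleton_injective h9).symm
    rcases (mem_fl g (by omega) a {i, j} (by omega) y).1 hyF with h5 | ⟨h5, h6, h7⟩
    · exact absurd (h5 ▸ self_mem_fl g a _) hyL
    · by_cases hyj : y ∈ fl g a {j}
      · exact Or.inl ⟨hy, hyj⟩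
      · right
        refine ⟨h5, h6, ?_⟩
        apply Finset.eq_of_subset_of_card_le h7
        rw [hijc]
        have h8 := g.card_S a y h5 h6
        by_contra hlt
        obtain ⟨l, hl⟩ := Finset.card_eq_one.1 (by omega : (g.S a y).card = 1)
        rw [hl, Finset.singleton_subset_iff, Finset.mem_insert, Finset.mem_singleton] at h7
        have hnear : g.Near a y := ⟨h5, h6, by rw [hl, Finset.card_singleton]⟩
        rcases h7 with rfl | rfl
        · exact hyL ((mem_line g hm hp).2 (Or.inr ⟨hnear, hl⟩))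
        · exact hyj ((mem_line g hm hp).2 (Or.inr ⟨hnear, hl⟩))
  have hint : (fl g c {j'} ∩ fl g a {j}).ncard ≤ 1 := by
    rw [Set.ncard_le_one (Set.toFinite _)]
    rintro y ⟨hy1, hy2⟩ z ⟨hz1, hz2⟩
    by_contra hyz
    have h5 := line_unique g hm hp hB hy1 hz1 hy2 hz2 hyz
    have h6 : c ∈ fl g a {j} := by
      rw [← h5]; exact self_mem_fl g c _
    rcases (mem_line g hm hp).1 h6 with h7 | ⟨-, h7⟩
    · exact hac h7.symm
    · rw [hSc] at h7
      exact hij (Finset.singleton_injective h7)
  have h4 := (Set.ncard_le_ncard hsub (Set.toFinite _)).trans (Set.ncard_union_le _ _)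
  rw [hcard2, g.card_ε a i j hij] at h4
  omega

/-- connectedness of the collinearity graph -/
theorem conn (g : Geo p m B ε XX) (hm : p + 3 ≤ m) (hp : 3 ≤ p) (hB : 1 ≤ B) (K : Subgroup (Perm Ω))
    (hK : IsPreprimitive K Ω) (hXX : ∀ k ∈ K, ∀ x ∈ XX, k * x * k⁻¹ ∈ XX) : g.Conn := by
  classical
  have hinv : ∀ k ∈ K, ∀ a b, g.Near a b → g.Near (k a) (k b) := by
    intro k hk a b h
    obtain ⟨h1, h2, h3⟩ := h
    have h1' : k a ≠ k b := fun h => h1 (k.injective h)
    have h2' : NF XX (k a) (k b) := by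
      obtain ⟨x, hx, hxa, hxb⟩ := h2
      exact ⟨k * x * k⁻¹, hXX k hk x hx, by simp [hxa], by simp [hxb]⟩
    refine ⟨h1', h2', ?_⟩
    have h4 := closure_eq g h1 h2
    have h5 := closure_eq g h1' h2'
    have h6 : {y | ∀ x ∈ XX, x (k a) = k a → x (k b) = k b → x y = y} =
        k '' {y | ∀ x ∈ XX, x a = a → x b = b → x y = y} := by
      ext y
      constructor
      · intro h
        refine ⟨k⁻¹ y, ?_, by simp⟩
        intro x hx hxa hxb
        have h7 := h (k * x * k⁻¹) (hXX k hk x hx) (by simp [hxa]) (by simp [hxb])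
        simp only [Perm.mul_apply] at h7
        rw [← Perm.eq_inv_iff_eq] at h7
        exact h7
      · rintro ⟨z, hz, rfl⟩ x hx hxa hxb
        have h7 := hz (k⁻¹ * x * k) (by simpa using hXX k⁻¹ (inv_mem hk) x hx) (by simp [hxa]) (by simp [hxb])
        simp only [Perm.mul_apply] at h7
        rw [Perm.inv_eq_iff_eq] at h7
        exact h7
    have hc2 : (g.S a b).card + p ≤ m := by
      have := (g.card_S a b h1 h2).2
      omega
    have hc2' : (g.S (k a) (k b)).card + p ≤ m := by
      have := (g.card_S (k a) (k b) h1' h2').2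
      omega
    have h7 : (fl g (k a) (g.S (k a) (k b))).ncard = (fl g a (g.S a b)).ncard := by
      rw [← h5, h6, ← h4, Set.ncard_image_of_injective _ k.injective]
    rw [card_fl g (by omega) _ _ hc2, card_fl g (by omega) _ _ hc2'] at h7
    rw [← h3]
    exact inj_gen (B := B) (ε := ε) _ _ (Or.inl hB) (by omega)
  have hsymm : ∀ a b, Relation.ReflTransGen g.Near a b → Relation.ReflTransGen g.Near b a := by
    intro a b h
    induction h with
    | refl => exact Relation.ReflTransGen.refl
    | tail h1 h2 ih => exact Relation.ReflTransGen.head (near_symm g hm hp hB h2) ih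
  have hmap : ∀ k ∈ K, ∀ a b, Relation.ReflTransGen g.Near a b → Relation.ReflTransGen g.Near (k a) (k b) := by
    intro k hk a b h
    exact Relation.ReflTransGen.lift k (fun a b h => hinv k hk a b h) _ _ h
  intro a b
  let C : Set Ω := {c | Relation.ReflTransGen g.Near a c}
  have haC : a ∈ C := Relation.ReflTransGen.refl
  have hblock : IsBlock K C := by
    rw [MulAction.isBlock_iff_smul_eq_or_disjoint]
    intro k
    by_cases h : Disjoint (k • C) C
    · exact Or.inr h
    · left
      rw [Set.not_disjoint_iff] at h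
      obtain ⟨z, ⟨c, hc, hkc⟩, hz⟩ := h
      have hkc' : (k : Perm Ω) c = z := hkc
      have h1 : Relation.ReflTransGen g.Near ((k : Perm Ω) a) z := hkc' ▸ hmap k k.2 a c hc
      have h2 : Relation.ReflTransGen g.Near ((k : Perm Ω) a) a := h1.trans (hsymm _ _ hz)
      ext y
      constructor
      · rintro ⟨d, hd, rfl⟩
        have h3 : Relation.ReflTransGen g.Near ((k : Perm Ω) a) ((k : Perm Ω) d) := hmap k k.2 a d hd
        exact (hsymm _ _ h2).trans h3
      · intro hy
        refine ⟨(k : Perm Ω)⁻¹ y, ?_, ?_⟩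
        · have h3 : Relation.ReflTransGen g.Near ((k : Perm Ω) a) y := h2.trans hy
          have h4 := hmap (k : Perm Ω)⁻¹ (inv_mem k.2) _ _ h3
          have h5 : (k : Perm Ω)⁻¹ ((k : Perm Ω) a) = a := by simp
          rw [h5] at h4
          exact h4
        · change (k : Perm Ω) ((k : Perm Ω)⁻¹ y) = y
          simp
  rcases hK.isTrivialBlock_of_isBlock hblock with h | h
  · exfalso
    obtain ⟨c, hac, hnc, hSc⟩ : ({b | a ≠ b ∧ NF XX a b ∧ g.S a b = {(⟨0, by omega⟩ : Fin m)}}).Nonempty := by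
      rw [← Set.ncard_pos (Set.toFinite _), g.card_B a _]
      exact hB
    have hcC : c ∈ C := Relation.ReflTransGen.single ⟨hac, hnc, by rw [hSc, Finset.card_singleton]⟩
    exact hac (h haC hcC)
  · have : b ∈ C := by rw [h]; exact Set.mem_univ b
    exact this

/-- the case `B = 1`, `ε = 0` -/
theorem case10 (g : Geo p m 1 0 XX) [Nonempty Ω] (hm : p + 3 ≤ m) (hp : 3 ≤ p) (hc : g.Conn) : Nat.card Ω = m + 1 := by
  classical
  have hB : 1 ≤ 1 := le_rfl
  -- all labels are singletons
  have hone : ∀ a b, a ≠ b → NF XX a b → g.Near a b := by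
    intro a b hab hn
    refine ⟨hab, hn, ?_⟩
    have h1 := g.card_S a b hab hn
    by_contra hne
    obtain ⟨i, j, hij, hS⟩ := Finset.card_eq_two.1 (by omega : (g.S a b).card = 2)
    have h2 := g.card_ε a i j hij
    rw [Set.ncard_eq_zero (Set.toFinite _)] at h2
    exact Set.notMem_empty b (h2 ▸ (show b ∈ {b | a ≠ b ∧ NF XX a b ∧ g.S a b = {i, j}} from ⟨hab, hn, hS⟩))
  -- two neighbours of a point are neighbours
  have htri : ∀ a b c, g.Near a b → g.Near a c → b ≠ c → g.Near b c := by
    intro a b c hb hc' hbc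
    obtain ⟨x, hx, hxa, hd⟩ := Cfsg.Agent.H903.GeoCase.exists_disj g a (g.S a b ∪ g.S a c) (by
      have h1 := Finset.card_union_le (g.S a b) (g.S a c)
      have h2 := hb.2.2
      have h3 := hc'.2.2
      omega)
    apply hone b c hbc
    refine ⟨x, hx, ?_, ?_⟩
    · rw [g.fix_iff a b hb.1 hb.2.1 x hx hxa]
      exact Finset.disjoint_of_subset_right Finset.subset_union_left hd
    · rw [g.fix_iff a c hc'.1 hc'.2.1 x hx hxa]
      exact Finset.disjoint_of_subset_right Finset.subset_union_right hd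
  obtain ⟨a⟩ := (inferInstance : Nonempty Ω)
  have hall : ∀ b, Relation.ReflTransGen g.Near a b → b = a ∨ g.Near a b := by
    intro b h
    induction h with
    | refl => exact Or.inl rfl
    | @tail b c h1 h2 ih =>
      rcases ih with rfl | ih
      · exact Or.inr h2
      · by_cases hca : c = a
        · exact Or.inl hca
        · exact Or.inr (htri b a c (near_symm g hm hp hB ih) h2 (fun h => hca h.symm))
  haveI := Fintype.ofFinite Ω
  -- counting
  have h1 : (Finset.univ.erase a).card = m := by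
    have h2 : (Finset.univ.erase a).card = (Finset.univ : Finset (Fin m)).card := by
      have hex : ∀ b ∈ Finset.univ.erase a, ∃ i : Fin m, g.S a b = {i} := by
        intro b hb
        rcases hall b (hc a b) with h | h
        · exact absurd h (Finset.ne_of_mem_erase hb)
        · exact Finset.card_eq_one.1 h.2.2
      haveI : Nonempty (Fin m) := ⟨⟨0, by omega⟩⟩
      choose! f hf using hex
      refine Finset.card_bij (fun b _ => f b) (fun _ _ => Finset.mem_univ _) ?_ ?_
      · intro b hb c hc' hbc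
        have h3 := hf b hb
        have h4 := hf c hc'
        rw [hbc] at h3
        have hb' : g.Near a b := (hall b (hc a b)).resolve_left (Finset.ne_of_mem_erase hb)
        have hc'' : g.Near a c := (hall c (hc a c)).resolve_left (Finset.ne_of_mem_erase hc')
        obtain ⟨w, hw⟩ := Set.ncard_eq_one.1 (g.card_B a (f c))
        have h5 : b ∈ {b | a ≠ b ∧ NF XX a b ∧ g.S a b = {f c}} := ⟨hb'.1, hb'.2.1, h3⟩
        have h6 : c ∈ {b | a ≠ b ∧ NF XX a b ∧ g.S a b = {f c}} := ⟨hc''.1, hc''.2.1, h4⟩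
        rw [hw] at h5 h6
        exact (Set.mem_singleton_iff.1 h5).trans (Set.mem_singleton_iff.1 h6).symm
      · intro i _
        obtain ⟨w, hw⟩ := Set.ncard_eq_one.1 (g.card_B a i)
        have h5 : w ∈ {b | a ≠ b ∧ NF XX a b ∧ g.S a b = {i}} := by rw [hw]; exact Set.mem_singleton w
        obtain ⟨h6, h7, h8⟩ := h5
        have h9 : w ∈ Finset.univ.erase a := Finset.mem_erase.2 ⟨h6.symm, Finset.mem_univ _⟩
        refine ⟨w, h9, ?_⟩
        have h10 := hf w h9
        rw [h8] at h10
        exact (Finset.singleton_injective h10).symm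
    rw [h2, Finset.card_univ, Fintype.card_fin]
  rw [Finset.card_erase_of_mem (Finset.mem_univ a), Finset.card_univ] at h1
  have h2 : 0 < Fintype.card Ω := Fintype.card_pos
  rw [Nat.card_eq_fintype_card]
  omega

end Cfsg.Agent.H405.PrA
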