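import Cfsg.Agent.H411.PrA.Defs

/-!
# S3618, part A: the numerical step (plan `tools/plans/S3618_A.md`, section 3)

If the group is not of alternating type at `a`, then every orbit of `M p K a` other than `{a}` costs at least 1, and the total cost is
at most 3, which leaves the configurations killed by the two lemmas "prime number of fixed points" and "rank 3".
-/

set_option autoImplicit false

open Equiv Equiv.Perm MulAction Cfsg.Agent.H411.PrA

namespace Cfsg.Agent.H405.PrA

universe u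

variable {Ω : Type u} [Fintype Ω] [DecidableEq Ω] {p q : ℕ} {K : Subgroup (Perm Ω)}

lemma mem_orb {a b c : Ω} : c ∈ orb p K a b ↔ ∃ m ∈ M p K a, m b = c := by
  classical
  simp [orb]

lemma self_mem_orb (a b : Ω) : b ∈ orb p K a b := mem_orb.2 ⟨1, one_mem _, rfl⟩

lemma orb_eq {a b c : Ω} (h : c ∈ orb p K a b) : orb p K a c = orb p K a b := by
  obtain ⟨m, hm, rfl⟩ := mem_orb.1 h
  ext d
  rw [mem_orb, mem_orb]
  constructor
  · rintro ⟨k, hk, rfl⟩
    exact ⟨k * m, mul_mem hk hm, rfl⟩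
  · rintro ⟨k, hk, rfl⟩
    exact ⟨k * m⁻¹, mul_mem hk (inv_mem hm), by simp⟩

lemma orb_eq_iff {a b c : Ω} : orb p K a c = orb p K a b ↔ c ∈ orb p K a b :=
  ⟨fun h => h ▸ self_mem_orb a c, orb_eq⟩

omit [Fintype Ω] [DecidableEq Ω] in
lemma M_fix {a : Ω} {m : Perm Ω} (hm : m ∈ M p K a) : m a = a := by
  have : M p K a ≤ MulAction.stabilizer (Perm Ω) a := by
    rw [M, Subgroup.closure_le]
    rintro x ⟨-, -, hx⟩
    exact hx
  exact this hm

omit [Fintype Ω] [DecidableEq Ω] in
lemma M_le {a : Ω} : M p K a ≤ K := by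
  rw [M, Subgroup.closure_le]
  rintro x ⟨hx, -, -⟩
  exact hx

lemma ne_of_mem_orb {a b c : Ω} (hb : b ≠ a) (h : c ∈ orb p K a b) : c ≠ a := by
  rintro rfl
  obtain ⟨m, hm, hc⟩ := mem_orb.1 h
  apply hb
  have h2 := M_fix hm
  exact m.injective (hc.trans h2.symm)

/-- the set of orbits of `M p K a` other than `{a}` -/
noncomputable def Os (p : ℕ) (K : Subgroup (Perm Ω)) (a : Ω) : Finset (Finset Ω) :=
  (Finset.univ.filter (fun b => b ≠ a)).image (orb p K a)

lemma mem_Os {a : Ω} {O : Finset Ω} : O ∈ Os p K a ↔ ∃ b, b ≠ a ∧ orb p K a b = O := by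
  simp [Os]

/-- counting points with a property through the orbits -/
lemma sum_Os (a : Ω) (P : Ω → Prop) [DecidablePred P] :
    ∑ O ∈ Os p K a, (O.filter P).card = (Finset.univ.filter (fun c => c ≠ a ∧ P c)).card := by
  rw [Finset.card_eq_sum_card_fiberwise (f := orb p K a) (t := Os p K a)]
  · apply Finset.sum_congr rfl
    intro O hO
    obtain ⟨b, hb, rfl⟩ := mem_Os.1 hO
    congr 1
    ext c
    simp only [Finset.mem_filter, Finset.mem_univ, true_and, orb_eq_iff]
    constructor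
    · rintro ⟨h1, h2⟩
      exact ⟨⟨ne_of_mem_orb hb h1, h2⟩, h1⟩
    · rintro ⟨⟨-, h2⟩, h1⟩
      exact ⟨h1, h2⟩
  · intro c hc
    simp only [Finset.coe_filter, Finset.mem_univ, true_and, Set.mem_setOf_eq] at hc
    exact Finset.mem_coe.2 (mem_Os.2 ⟨c, hc.1, rfl⟩)

/-- if there is only one orbit, the group is doubly transitive -/
lemma two_of_single (hK : IsPreprimitive K Ω) (a : Ω) (O : Finset Ω) (h : ∀ b, b ≠ a → orb p K a b = O) :
    IsMultiplyPretransitive K Ω 2 := by
  rw [is_two_pretransitive_iff]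
  intro b c d e hbc hde
  haveI := hK.toIsPretransitive
  obtain ⟨k1, hk1⟩ := MulAction.exists_smul_eq K b a
  obtain ⟨k2, hk2⟩ := MulAction.exists_smul_eq K d a
  have h1 : k1 • c ≠ a := by
    intro hc
    exact hbc (MulAction.injective k1 (hk1.trans hc.symm))
  have h2 : k2 • e ≠ a := by
    intro hc
    exact hde (MulAction.injective k2 (hk2.trans hc.symm))
  have h3 : k2 • e ∈ orb p K a (k1 • c) := by
    rw [h _ h1, ← h _ h2]
    exact self_mem_orb _ _
  obtain ⟨m, hm, hm2⟩ := mem_orb.1 h3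
  refine ⟨k2⁻¹ * ⟨m, M_le hm⟩ * k1, ?_, ?_⟩
  · rw [mul_smul, mul_smul, hk1, inv_smul_eq_iff, hk2]
    exact M_fix hm
  · rw [mul_smul, mul_smul, inv_smul_eq_iff]
    exact hm2

/-- NUM, from the two lemmas PF and RANK3 (as hypotheses) -/
theorem numeric_of (h : Setup p q K) (he : 5 * q < 2 * (Fintype.card Ω - q * p + 1)) (a : Ω) (x : Perm Ω) (hx : x ∈ K)
    (hxp : orderOf x = p) (hxa : x a = a)
    (hPF : (Fintype.card Ω - q * p).Prime → q < Fintype.card Ω - q * p →
      2 * (Fintype.card Ω - q * p) < Fintype.card Ω → ∀ b, b ≠ a → fx x (orb p K a b) = 2 → False)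
    (hR3 : ∀ b₁ b₂ : Ω, b₁ ≠ a → b₂ ≠ a → (∀ c, c = a ∨ c ∈ orb p K a b₁ ∨ c ∈ orb p K a b₂) →
      b₂ ∉ orb p K a b₁ → Two p K a (orb p K a b₁) → (orb p K a b₁).card < (orb p K a b₂).card →
      fx x (orb p K a b₁) = 2 → 3 ≤ fx x (orb p K a b₂) → False)
    (ht : ∀ b, b ≠ a → ∃ κ : ℕ, 1 ≤ κ ∧ mv x (orb p K a b) = κ * p ∧
      (2 * fx x (orb p K a b) + 2 ≤ 5 * κ ∨ (κ = 1 ∧ fx x (orb p K a b) = 2 ∧ Two p K a (orb p K a b)))) : False := by
  classical
  have hp0 : 0 < p := h.prime.pos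
  have hp3 : 3 ≤ p := lt_of_le_of_lt h.two_le h.lt
  -- choose the numbers
  have ht' : ∀ O : Finset Ω, ∃ κ : ℕ, O ∈ Os p K a → (1 ≤ κ ∧ mv x O = κ * p ∧
      (2 * fx x O + 2 ≤ 5 * κ ∨ (κ = 1 ∧ fx x O = 2 ∧ Two p K a O))) := by
    intro O
    by_cases hO : O ∈ Os p K a
    · obtain ⟨b, hb, rfl⟩ := mem_Os.1 hO
      obtain ⟨κ, hκ⟩ := ht b hb
      exact ⟨κ, fun _ => hκ⟩
    · exact ⟨0, fun h => absurd h hO⟩
  choose κ hκ using ht'
  -- sums
  have hsum1 : ∑ O ∈ Os p K a, κ O = q := by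
    have h1 : ∑ O ∈ Os p K a, mv x O = q * p := by
      rw [← h.supp x hx hxp]
      have h2 := sum_Os (p := p) (K := K) a (fun c => x c ≠ c)
      have h3 : (Finset.univ.filter (fun c => c ≠ a ∧ x c ≠ c)) = x.support := by
        ext c
        simp only [Finset.mem_filter, Finset.mem_univ, true_and, mem_support]
        constructor
        · exact fun h => h.2
        · intro hc
          refine ⟨?_, hc⟩
          rintro rfl
          exact hc hxa
      rw [h3] at h2
      exact h2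
    rw [Finset.sum_congr rfl (fun O hO => (hκ O hO).2.1), ← Finset.sum_mul] at h1
    exact Nat.eq_of_mul_eq_mul_right hp0 h1
  have hsum2 : ∑ O ∈ Os p K a, fx x O + 1 = Fintype.card Ω - q * p := by
    have h2 := sum_Os (p := p) (K := K) a (fun c => x c = c)
    have h3 : (Finset.univ.filter (fun c => c ≠ a ∧ x c = c)) = (x.supportᶜ).erase a := by
      ext c
      simp only [Finset.mem_filter, Finset.mem_univ, true_and, Finset.mem_erase, Finset.mem_compl, mem_support,
        not_not]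
    have h4 : a ∈ x.supportᶜ := by
      rw [Finset.mem_compl, mem_support, not_not]
      exact hxa
    have h5 : (x.supportᶜ).card = Fintype.card Ω - q * p := by
      rw [Finset.card_compl, h.supp x hx hxp]
    rw [h3, Finset.card_erase_of_mem h4, h5] at h2
    have h6 : 0 < Fintype.card Ω - q * p := Nat.sub_pos_of_lt h.fix
    change ∑ O ∈ Os p K a, (O.filter (fun c => x c = c)).card + 1 = _
    rw [h2]
    omega
  -- the cost of an orbit
  have hcost1 : ∀ O ∈ Os p K a, 2 * fx x O + 1 ≤ 5 * κ O := by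
    intro O hO
    obtain ⟨h1, -, h2 | ⟨h2, h3, -⟩⟩ := hκ O hO
    · omega
    · omega
  have hcard3 : (Os p K a).card ≤ 3 := by
    have h1 : ∑ O ∈ Os p K a, (2 * fx x O + 1) ≤ ∑ O ∈ Os p K a, 5 * κ O := Finset.sum_le_sum hcost1
    rw [Finset.sum_add_distrib, ← Finset.mul_sum, ← Finset.mul_sum, hsum1, Finset.sum_const, smul_eq_mul, mul_one] at h1
    omega
  have hcard2 : 2 ≤ (Os p K a).card := by
    by_contra hlt
    have hle : (Os p K a).card ≤ 1 := by omega
    apply h.not2
    rw [Finset.card_le_one] at hle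
    by_cases hb : ∃ b, b ≠ a
    · obtain ⟨b, hb⟩ := hb
      exact two_of_single h.prim a (orb p K a b) (fun c hc => hle _ (mem_Os.2 ⟨c, hc, rfl⟩) _ (mem_Os.2 ⟨b, hb, rfl⟩))
    · push_neg at hb
      exact two_of_single (p := p) h.prim a ∅ (fun c hc => absurd (hb c) hc)
  by_cases hT : ∀ O ∈ Os p K a, κ O = 1 ∧ fx x O = 2
  · -- all orbits are of type T
    have h1 : ∑ O ∈ Os p K a, κ O = (Os p K a).card := by
      rw [Finset.sum_congr rfl (fun O hO => (hT O hO).1)]
      simp
    have h2 : ∑ O ∈ Os p K a, fx x O = 2 * (Os p K a).card := by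
      rw [Finset.sum_congr rfl (fun O hO => (hT O hO).2)]
      simp [mul_comm]
    rw [h1] at hsum1
    rw [h2, hsum1] at hsum2
    obtain ⟨O, hO⟩ : (Os p K a).Nonempty := Finset.card_pos.1 (by omega)
    obtain ⟨b, hb, hbO⟩ := mem_Os.1 hO
    have hfb : fx x (orb p K a b) = 2 := by rw [hbO]; exact (hT O hO).2
    have hq : q = 2 ∨ q = 3 := by omega
    have hfix := h.fix
    refine hPF ?_ ?_ ?_ b hb hfb
    · rw [← hsum2]
      rcases hq with rfl | rfl <;> norm_num
    · omega
    · rcases hq with rfl | rfl <;> have := h.lt <;> omega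
  · push_neg at hT
    obtain ⟨O2, hO2, hO2T⟩ := hT
    have hk2 := hκ O2 hO2
    have hc2 : 2 * fx x O2 + 2 ≤ 5 * κ O2 := by
      obtain ⟨-, -, h2 | ⟨h2, h3, -⟩⟩ := hk2
      · exact h2
      · exact absurd h3 (hO2T h2)
    -- the rest
    have hs1 := Finset.add_sum_erase (Os p K a) κ hO2
    have hs2 := Finset.add_sum_erase (Os p K a) (fun O => fx x O) hO2
    have hce := Finset.card_erase_of_mem hO2
    have h1 : ∑ O ∈ (Os p K a).erase O2, (2 * fx x O + 1) ≤ ∑ O ∈ (Os p K a).erase O2, 5 * κ O :=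
      Finset.sum_le_sum (fun O hO => hcost1 O (Finset.mem_of_mem_erase hO))
    rw [Finset.sum_add_distrib, ← Finset.mul_sum, ← Finset.mul_sum, Finset.sum_const, smul_eq_mul, mul_one] at h1
    have hc1 : ((Os p K a).erase O2).card = 1 := by omega
    obtain ⟨O1, hO1⟩ := Finset.card_eq_one.1 hc1
    have hO1m : O1 ∈ (Os p K a).erase O2 := by rw [hO1]; exact Finset.mem_singleton_self _
    have hO1' : O1 ∈ Os p K a := Finset.mem_of_mem_erase hO1m
    have hne : O1 ≠ O2 := Finset.ne_of_mem_erase hO1m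
    rw [hO1, Finset.sum_singleton] at hs1 hs2
    have hk1 := hκ O1 hO1'
    obtain ⟨hk11, hk12, hk13⟩ := hk1
    obtain ⟨hk21, hk22, -⟩ := hk2
    have hT1 : κ O1 = 1 ∧ fx x O1 = 2 ∧ Two p K a O1 := by
      rcases hk13 with h2 | h2
      · omega
      · exact h2
    obtain ⟨hT11, hT12, hT13⟩ := hT1
    have hc2' : 2 * fx x O2 + 2 = 5 * κ O2 := by omega
    have hκ2 : 2 ≤ κ O2 := by omega
    have hfx2 : 4 ≤ fx x O2 := by omega
    obtain ⟨b1, hb1, rfl⟩ := mem_Os.1 hO1'
    obtain ⟨b2, hb2, rfl⟩ := mem_Os.1 hO2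
    have hcardO : ∀ O : Finset Ω, O.card = mv x O + fx x O := by
      intro O
      rw [mv, fx, add_comm]
      exact (Finset.card_filter_add_card_filter_not (fun c => x c = c)).symm
    refine hR3 b1 b2 hb1 hb2 ?_ ?_ hT13 ?_ hT12 (by omega)
    · intro c
      by_cases hc : c = a
      · exact Or.inl hc
      · right
        have hcO : orb p K a c ∈ Os p K a := mem_Os.2 ⟨c, hc, rfl⟩
        by_cases hc2 : orb p K a c = orb p K a b2
        · right
          exact orb_eq_iff.1 hc2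
        · left
          have : orb p K a c ∈ (Os p K a).erase (orb p K a b2) := Finset.mem_erase.2 ⟨hc2, hcO⟩
          rw [hO1, Finset.mem_singleton] at this
          exact orb_eq_iff.1 this
    · intro hmem
      exact hne (orb_eq hmem).symm
    · rw [hcardO, hcardO, hk12, hk22, hT11, hT12, one_mul]
      nlinarith

end Cfsg.Agent.H405.PrA
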